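import Groth.Agent.Lib.HodgeIndex.Real
import Groth.Agent.Lib.HodgeIndex.Deg
import Groth.Agent.Lib.HodgeIndex.NegCurves
import Groth.Agent.Lib.HodgeIndex.Pullback
import Groth.Agent.Lib.Kleiman.Proper
import Groth.Agent.Lib.Goodman.Main
import Groth.Agent.Lib.Cube.AmpleCrit
import Groth.Agent.Lib.Cube.AbVar
import Groth.Agent.Lib.CurveMult.PointQuot
import Groth.Agent.Lib.CurveMult.SepRat
import Groth.Agent.Lib.FBase7.Dim
import Groth.Agent.Lib.Seesaw26.Criterion
import Groth.Prelude.Def_Curve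

/-!
# The intersection form on a product of two curves
-/

set_option autoImplicit false
set_option backward.isDefEq.respectTransparency false
set_option linter.all false

universe u

open CategoryTheory CategoryTheory.Limits AlgebraicGeometry TopologicalSpace

noncomputable section

namespace GrothLib.CurveProd28

open GrothLib.Cube (Pic clsMod pull)
open GrothLib.HodgeIndex

variable (k : Type u) [Field k]

section Curve

variable {C : Scheme.{u}} [C.Over (Spec (CommRingCat.of k))]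
  [IsProper (C ↘ Spec (CommRingCat.of k))] [Smooth (C ↘ Spec (CommRingCat.of k))] [IsIntegral C]
  (hd : topologicalKrullDim C = 1)
  (x : Spec (CommRingCat.of k) ⟶ C) (hx : x ≫ (C ↘ Spec (CommRingCat.of k)) = 𝟙 _)

omit [Smooth (C ↘ Spec (CommRingCat.of k))] [IsIntegral C] in
include hx in
theorem isClosedImmersion_pt : IsClosedImmersion x := by
  haveI : IsClosedImmersion (x ≫ (C ↘ Spec (CommRingCat.of k))) := by rw [hx]; infer_instance
  exact IsClosedImmersion.of_comp x (C ↘ Spec (CommRingCat.of k))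

omit [Smooth (C ↘ Spec (CommRingCat.of k))] [IsIntegral C] in
include hx in
theorem isClosed_pt : IsClosed ({x (IsLocalRing.closedPoint k)} : Set C) := by
  haveI := isClosedImmersion_pt k x hx
  haveI : Subsingleton ↥(Spec (CommRingCat.of k)) := inferInstanceAs (Subsingleton (PrimeSpectrum k))
  have h := x.isClosedEmbedding.isClosed_range
  rwa [show Set.range x = {x (IsLocalRing.closedPoint k)} by
    ext c
    constructor
    · rintro ⟨z, rfl⟩; rw [Subsingleton.elim z (IsLocalRing.closedPoint k)]; rfl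
    · rintro rfl; exact ⟨_, rfl⟩] at h

omit [Smooth (C ↘ Spec (CommRingCat.of k))] [IsIntegral C] in
include hx in
theorem ker_pt : x.ker = (C.fromSpecResidueField (x (IsLocalRing.closedPoint k))).ker := by
  haveI := isClosedImmersion_pt k x hx
  haveI : Subsingleton ↥(Spec (CommRingCat.of k)) := inferInstanceAs (Subsingleton (PrimeSpectrum k))
  rw [CurveMult.ker_fromSpecResidueField (isClosed_pt k x hx), SchImage.ker_eq_vanishingIdeal]
  congr 1
  refine Closeds.ext ?_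
  show closure (Set.range x) = {x (IsLocalRing.closedPoint k)}
  rw [show Set.range x = {x (IsLocalRing.closedPoint k)} by
    ext c
    constructor
    · rintro ⟨z, rfl⟩; rw [Subsingleton.elim z (IsLocalRing.closedPoint k)]; rfl
    · rintro rfl; exact ⟨_, rfl⟩, (isClosed_pt k x hx).closure_eq]

include hd hx in
theorem isInvertible_pt : PicF.IsInvertible (ClSub.idealMod x.ker) := by
  rw [ker_pt k x hx]
  exact isInvertible_point (k := k) hd (isClosed_pt k x hx)

include hd hx in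
/-- The ideal of a rational point has degree `-1`. -/
theorem deg_idealMod_pt : Curv2.deg k C (ClSub.idealMod x.ker) 1 = -1 := by
  letI := Curv2.resAlgebra k C (x (IsLocalRing.closedPoint k))
  haveI := Euler.isNoetherian_of_proper (X := C) k
  let D := x.ker
  haveI := Euler.epi_toSubscheme D
  let S := ShortComplex.mk (ClSub.idealModι D) (ClSub.toSubscheme D) (kernel.condition _)
  haveI : Mono S.f := inferInstanceAs (Mono (kernel.ι (ClSub.toSubscheme D)))
  haveI : Epi S.g := Euler.epi_toSubscheme D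
  have hS : S.ShortExact := { exact := ShortComplex.exact_of_f_is_kernel _ (kernelIsKernel _) }
  have h := Euler.euler_additive k hS (Euler.isCoh_of_isInvertible (isInvertible_pt k hd x hx))
    (Euler.isCoh_of_isInvertible Euler.isInvertible_structure) (QCoh.pushUnit_isCoh D.subschemeι)
  have hsupp : CohB1.support (ClSub.quotMod D) ⊆ {x (IsLocalRing.closedPoint k)} := by
    refine (QCoh.support_pushforward_subset_range D.subschemeι _).trans ?_
    rw [D.range_subschemeι, show D = (C.fromSpecResidueField (x (IsLocalRing.closedPoint k))).ker from ker_pt k x hx,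
      Scheme.Hom.support_ker, Scheme.range_fromSpecResidueField, (isClosed_pt k x hx).closure_eq]
  have hq : Curv2.euler k C (ClSub.quotMod D) = 1 := by
    rw [Euler.euler_eq_of_finite_support k _ ((Set.finite_singleton _).subset hsupp)
      (fun z hz => by rw [Set.mem_singleton_iff.1 (hsupp hz)]; exact isClosed_pt k x hx)]
    rw [show D = (C.fromSpecResidueField (x (IsLocalRing.closedPoint k))).ker from ker_pt k x hx,
      CurveMult.finrank_H0_quotMod_point k (isClosed_pt k x hx)]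
    have e := LinearEquiv.ofBijective (Algebra.linearMap k (C.residueField (x (IsLocalRing.closedPoint k))))
      (CurveMult.bijective_resMap_of_section k x hx _)
    rw [← e.finrank_eq, Module.finrank_self, Nat.cast_one]
  simp only [S] at h
  simp only [Curv2.deg, Nat.cast_one, one_mul]
  linarith

end Curve

variable [IsAlgClosed k] {X C₁ C₂ : Scheme.{u}} [X.Over (Spec (CommRingCat.of k))]
  [C₁.Over (Spec (CommRingCat.of k))] [C₂.Over (Spec (CommRingCat.of k))]
  (p₁ : X ⟶ C₁) (p₂ : X ⟶ C₂) (hP : IsPullback p₁ p₂ (C₁ ↘ Spec (CommRingCat.of k)) (C₂ ↘ Spec (CommRingCat.of k)))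
  (hp : p₁ ≫ (C₁ ↘ Spec (CommRingCat.of k)) = X ↘ Spec (CommRingCat.of k))
  (h₁ : Curve.IsSmoothProperCurve k C₁ (C₁ ↘ Spec (CommRingCat.of k)))
  (h₂ : Curve.IsSmoothProperCurve k C₂ (C₂ ↘ Spec (CommRingCat.of k)))

include hP hp h₁ h₂ in
/-- The product of two curves is a smooth projective surface. -/
theorem surface : IsProper (X ↘ Spec (CommRingCat.of k)) ∧ Smooth (X ↘ Spec (CommRingCat.of k)) ∧ IsIntegral X ∧
    topologicalKrullDim X = ((2 : ℕ) : WithBot ℕ∞) := by
  obtain ⟨hp1, hs1, hi1, hd1⟩ := h₁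
  obtain ⟨hp2, hs2, hi2, hd2⟩ := h₂
  haveI : IsProper p₁ := MorphismProperty.of_isPullback hP.flip hp2
  haveI : Smooth p₁ := MorphismProperty.of_isPullback hP.flip hs2
  refine ⟨by rw [← hp]; infer_instance, by rw [← hp]; infer_instance, ?_, ?_⟩
  · haveI := Cube.geometricallyIntegral_of_isIntegral (C₂ ↘ Spec (CommRingCat.of k))
    haveI : GeometricallyIntegral p₁ := MorphismProperty.of_isPullback hP.flip inferInstance
    haveI : IsLocallyNoetherian C₁ := LocallyOfFiniteType.isLocallyNoetherian (C₁ ↘ Spec (CommRingCat.of k))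
    exact GeometricallyIntegral.isIntegral_of_isLocallyNoetherian p₁
  · rw [IsHomeomorph.topologicalKrullDim_eq _ hP.isoPullback.hom.homeomorph.isHomeomorph,
      FBase7.topologicalKrullDim_pullback_eq_add, hd1, hd2]
    rfl

section Slice

variable (x : Spec (CommRingCat.of k) ⟶ C₁) (hx : x ≫ (C₁ ↘ Spec (CommRingCat.of k)) = 𝟙 _)
  (i₂ : C₂ ⟶ X) (hi₂ : i₂ ≫ p₂ = 𝟙 C₂) (hi₂' : i₂ ≫ p₁ = (C₂ ↘ Spec (CommRingCat.of k)) ≫ x)

include hP hx hi₂ hi₂' in
theorem isPullback_slice : IsPullback i₂ (C₂ ↘ Spec (CommRingCat.of k)) p₁ x := by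
  refine IsPullback.of_right ?_ hi₂' hP.flip
  rw [hi₂, hx]
  exact IsPullback.of_horiz_isIso ⟨by simp⟩

include hP hp h₁ hx hi₂ hi₂' in
theorem slice_over : i₂ ≫ (X ↘ Spec (CommRingCat.of k)) = C₂ ↘ Spec (CommRingCat.of k) := by
  rw [← hp, ← Category.assoc, hi₂', Category.assoc, hx, Category.comp_id]

include hP h₁ hx hi₂ hi₂' in
theorem isClosedImmersion_slice : IsClosedImmersion i₂ := by
  haveI := h₁.1
  haveI := isClosedImmersion_pt k x hx
  exact MorphismProperty.of_isPullback (isPullback_slice k p₁ p₂ hP x hx i₂ hi₂ hi₂').flip inferInstance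

include hP h₁ hx hi₂ hi₂' in
theorem ker_slice : i₂.ker = x.ker.comap p₁ := by
  haveI := h₁.1
  haveI := isClosedImmersion_pt k x hx
  have hQ := isPullback_slice k p₁ p₂ hP x hx i₂ hi₂ hi₂'
  rw [← hQ.isoPullback_hom_fst, Scheme.Hom.ker_comp_of_isIso]
  exact Scheme.IdealSheafData.ker_fst_of_isClosedImmersion x p₁

include hP hp h₁ h₂ hx hi₂ hi₂' in
theorem slice_props : IsIntegral i₂.ker.subscheme ∧ topologicalKrullDim (i₂.ker.support : Set X) = 1 := by
  haveI := isClosedImmersion_slice k p₁ p₂ hP h₁ x hx i₂ hi₂ hi₂'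
  haveI := h₂.2.2.1
  haveI : IsIso i₂.toImage := inferInstance
  haveI : Nonempty i₂.ker.subscheme := (IsIntegral.nonempty (X := C₂)).map i₂.toImage
  refine ⟨isIntegral_of_isOpenImmersion (inv i₂.toImage), ?_⟩
  rw [← h₂.2.2.2, ← Scheme.IdealSheafData.range_subschemeι]
  refine ((IsHomeomorph.topologicalKrullDim_eq _
    i₂.ker.subschemeι.isClosedEmbedding.isEmbedding.toHomeomorph.isHomeomorph).symm).trans ?_
  exact (IsHomeomorph.topologicalKrullDim_eq _ i₂.toImage.homeomorph.isHomeomorph).symm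

variable [IsProper (X ↘ Spec (CommRingCat.of k))] [Smooth (X ↘ Spec (CommRingCat.of k))] [IsIntegral X]
  (hdim : topologicalKrullDim X = ((2 : ℕ) : WithBot ℕ∞))

include hP hp h₁ h₂ hx hi₂ hi₂' hdim in
/-- The degree on a slice. -/
theorem deg_slice {L : X.Modules} (hL : PicF.IsInvertible L) :
    Curv2.deg k C₂ ((Scheme.Modules.pullback i₂).obj L) 1 = isect k (clsMod hL) (cCl i₂.ker) := by
  haveI := isClosedImmersion_slice k p₁ p₂ hP h₁ x hx i₂ hi₂ hi₂'
  obtain ⟨hi, hd⟩ := slice_props k p₁ p₂ hP hp h₁ h₂ x hx i₂ hi₂ hi₂'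
  have hov := slice_over k p₁ p₂ hP hp h₁ x hx i₂ hi₂ hi₂'
  rw [← euler_sub_eq_isect k hdim hi hd hL, Curv2.deg, Nat.cast_one, one_mul,
    Kleiman.euler_pullback_eq_quotMod k i₂ hov hL]
  congr 1
  rw [← Euler.euler_of_iso k (Ample.nonempty_pullback_structureModule i₂).some,
    Kleiman.euler_pullback_eq_quotMod k i₂ hov Euler.isInvertible_structure]
  exact Kleiman.euler_tensor_structure k _

include hP hp h₁ h₂ hx hi₂ hi₂' hdim in
/-- The class of a slice is pulled back from the point. -/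
theorem cCl_slice :
    haveI := h₁.1; haveI := h₁.2.1; haveI := h₁.2.2.1
    cCl i₂.ker = (pull p₁ (clsMod (isInvertible_pt k h₁.2.2.2 x hx)))⁻¹ := by
  haveI := h₁.1; haveI := h₁.2.1; haveI := h₁.2.2.1
  obtain ⟨hi, hd⟩ := slice_props k p₁ p₂ hP hp h₁ h₂ x hx i₂ hi₂ hi₂'
  haveI := isClosedImmersion_slice k p₁ p₂ hP h₁ x hx i₂ hi₂ hi₂'
  haveI := isClosedImmersion_pt k x hx
  have hI := inv_curve k hdim hi hd
  rw [cCl, dif_pos hI, ← Cube.clsMod_pullback, inv_inj, eq_comm, Cube.clsMod_eq_iff]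
  exact nonempty_pullback_idealMod x i₂ (C₂ ↘ Spec (CommRingCat.of k)) p₁ hi₂'
    (ker_slice k p₁ p₂ hP h₁ x hx i₂ hi₂ hi₂') (isInvertible_pt k h₁.2.2.2 x hx) hI

end Slice

theorem deg_eq_of_cls {C : Scheme.{u}} [C.Over (Spec (CommRingCat.of k))] {L L' : C.Modules}
    (hL : PicF.IsInvertible L) (hL' : PicF.IsInvertible L') (h : clsMod hL = clsMod hL') :
    Curv2.deg k C L 1 = Curv2.deg k C L' 1 := by
  obtain ⟨e⟩ := (Cube.clsMod_eq_iff hL hL').1 h
  rw [Curv2.deg, Curv2.deg, Euler.euler_of_iso k e]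

variable [IsProper (X ↘ Spec (CommRingCat.of k))] [Smooth (X ↘ Spec (CommRingCat.of k))] [IsIntegral X]
  (hdim : topologicalKrullDim X = ((2 : ℕ) : WithBot ℕ∞))
  (x : Spec (CommRingCat.of k) ⟶ C₁) (hx : x ≫ (C₁ ↘ Spec (CommRingCat.of k)) = 𝟙 _)
  (i₂ : C₂ ⟶ X) (hi₂ : i₂ ≫ p₂ = 𝟙 C₂) (hi₂' : i₂ ≫ p₁ = (C₂ ↘ Spec (CommRingCat.of k)) ≫ x)

include hP hp h₁ h₂ hx hi₂ hi₂' hdim in
theorem isect_slice_self : isect k (cCl i₂.ker) (cCl i₂.ker) = 0 := by
  haveI := h₁.1; haveI := h₁.2.1; haveI := h₁.2.2.1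
  have hI := isInvertible_pt k h₁.2.2.2 x hx
  have e := cCl_slice k p₁ p₂ hP hp h₁ h₂ x hx i₂ hi₂ hi₂' hdim
  conv_lhs => arg 2; rw [e]
  rw [isect_inv_left k hdim.le, ← Cube.clsMod_pullback (hL := hI), ← deg_slice k p₁ p₂ hP hp h₁ h₂ x hx i₂ hi₂ hi₂' hdim,
    neg_eq_zero]
  have h1 : clsMod (Ample.isInvertible_pullback i₂ (Ample.isInvertible_pullback p₁ hI)) =
      clsMod (Euler.isInvertible_structure (X := C₂)) := by
    rw [Cube.clsMod_pullback i₂ (Ample.isInvertible_pullback p₁ hI), Cube.clsMod_pullback p₁ hI, Cube.pull_comp, hi₂', ← Cube.pull_comp,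
      (Cube.clsMod_eq_one_iff (Euler.isInvertible_structure (X := C₂))).2 ⟨Iso.refl _⟩,
      Cube.pic_spec_field_eq_one (pull x _), map_one]
  rw [deg_eq_of_cls k _ _ h1, Curv2.deg]
  simp

variable (y : Spec (CommRingCat.of k) ⟶ C₂) (hy : y ≫ (C₂ ↘ Spec (CommRingCat.of k)) = 𝟙 _)
  (i₁ : C₁ ⟶ X) (hi₁ : i₁ ≫ p₁ = 𝟙 C₁) (hi₁' : i₁ ≫ p₂ = (C₁ ↘ Spec (CommRingCat.of k)) ≫ y)

include hP hp h₁ h₂ hx hi₂ hi₂' hy hi₁ hi₁' hdim in
theorem isect_slices : isect k (cCl i₁.ker) (cCl i₂.ker) = 1 := by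
  haveI := h₂.1; haveI := h₂.2.1; haveI := h₂.2.2.1
  have hI := isInvertible_pt k h₂.2.2.2 y hy
  rw [cCl_slice k p₂ p₁ hP.flip (hP.w.symm.trans hp) h₂ h₁ y hy i₁ hi₁ hi₁' hdim, isect_inv_left k hdim.le,
    ← Cube.clsMod_pullback (hL := hI), ← deg_slice k p₁ p₂ hP hp h₁ h₂ x hx i₂ hi₂ hi₂' hdim]
  have h1 : clsMod (Ample.isInvertible_pullback i₂ (Ample.isInvertible_pullback p₂ hI)) = clsMod hI := by
    rw [Cube.clsMod_pullback i₂ (Ample.isInvertible_pullback p₂ hI), Cube.clsMod_pullback p₂ hI, Cube.pull_comp, hi₂, Cube.pull_id]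
  rw [deg_eq_of_cls k _ _ h1, deg_idealMod_pt k h₂.2.2.2 y hy, neg_neg]

theorem isect_zpow_left (hd : topologicalKrullDim X ≤ ((2 : ℕ) : WithBot ℕ∞)) (a z : Pic X) (n : ℤ) :
    isect k (a ^ n) z = n * isect k a z := by
  rcases Int.eq_nat_or_neg n with ⟨m, rfl | rfl⟩
  · rw [zpow_natCast, isect_pow_left k hd]
  · rw [zpow_neg, zpow_natCast, isect_inv_left k hd, isect_pow_left k hd]; ring

theorem isect_zpow_right (hd : topologicalKrullDim X ≤ ((2 : ℕ) : WithBot ℕ∞)) (z a : Pic X) (n : ℤ) :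
    isect k z (a ^ n) = n * isect k z a := by
  rw [isect_comm, isect_zpow_left k hd, isect_comm]

include hP hp h₁ h₂ hx hi₂ hi₂' hy hi₁ hi₁' hdim in
/-- `(D²) ≤ 2 (D·ℓ₁)(D·ℓ₂)`. -/
theorem sq_le_two_mul (c : Pic X) :
    isect k c c ≤ 2 * isect k c (cCl i₁.ker) * isect k c (cCl i₂.ker) := by
  obtain ⟨H, hH⟩ := Goodman.exists_ample_of_smooth_surface k hdim
  have h11 := isect_slice_self k p₂ p₁ hP.flip (hP.w.symm.trans hp) h₂ h₁ hdim y hy i₁ hi₁ hi₁'
  have h22 := isect_slice_self k p₁ p₂ hP hp h₁ h₂ hdim x hx i₂ hi₂ hi₂'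
  have h12 := isect_slices k p₁ p₂ hP hp h₁ h₂ hdim x hx i₂ hi₂ hi₂' y hy i₁ hi₁ hi₁'
  have h21 := (isect_comm k (cCl i₂.ker) (cCl i₁.ker)).trans h12
  generalize cCl i₁.ker = g at h11 h12 h21 ⊢
  generalize cCl i₂.ker = g' at h22 h12 h21 ⊢
  have hd := hdim.le
  obtain ⟨a, ha⟩ : ∃ a, isect k c g = a := ⟨_, rfl⟩
  obtain ⟨b, hb⟩ : ∃ b, isect k c g' = b := ⟨_, rfl⟩
  have ha' := (isect_comm k g c).trans ha
  have hb' := (isect_comm k g' c).trans hb
  have h := sq_nonpos_of_orth_pic k hdim hH (d := g * g') (z := c * g ^ (-b) * g' ^ (-a))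
    (by
      simp only [isect_mul_left k hd, isect_mul_right k hd, h11, h22, h12, h21]
      norm_num)
    (by
      simp only [isect_mul_left k hd, isect_mul_right k hd, isect_zpow_right k hd, h11, h22, h12, h21, ha', hb']
      ring)
  simp only [isect_mul_left k hd, isect_mul_right k hd, isect_zpow_left k hd, isect_zpow_right k hd, h11, h22, h12,
    h21, ha, hb, ha', hb'] at h
  rw [ha, hb]
  linarith

theorem sq_le_mul_of_forall {A B D : ℤ} (h : ∀ m n : ℤ, m * m * A + 2 * (m * n) * B + n * n * D ≤ 0) :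
    B ^ 2 ≤ A * D := by
  have hA := h 1 0
  have hD := h 0 1
  rcases (show A ≤ 0 by linarith).lt_or_eq with hlt | heq
  · have h1 := h (-B) A
    by_contra hc
    push Not at hc
    nlinarith [mul_pos (neg_pos.2 hlt) (sub_pos.2 hc)]
  · subst heq
    have h1 := h (B * (1 - D)) 1
    nlinarith [h1, mul_self_nonneg B]

include hP hp h₁ h₂ hx hi₂ hi₂' hy hi₁ hi₁' hdim in
/-- The inequality of Cauchy–Schwarz for the equivalence defects. -/
theorem defect_sq_le (c c' : Pic X) :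
    (isect k c c' - isect k c (cCl i₁.ker) * isect k c' (cCl i₂.ker)
        - isect k c (cCl i₂.ker) * isect k c' (cCl i₁.ker)) ^ 2 ≤
      (2 * isect k c (cCl i₁.ker) * isect k c (cCl i₂.ker) - isect k c c) *
        (2 * isect k c' (cCl i₁.ker) * isect k c' (cCl i₂.ker) - isect k c' c') := by
  have hd := hdim.le
  refine le_of_le_of_eq (sq_le_mul_of_forall
    (A := isect k c c - 2 * isect k c (cCl i₁.ker) * isect k c (cCl i₂.ker))
    (D := isect k c' c' - 2 * isect k c' (cCl i₁.ker) * isect k c' (cCl i₂.ker)) fun m n => ?_) (by ring)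
  have h := sq_le_two_mul k p₁ p₂ hP hp h₁ h₂ hdim x hx i₂ hi₂ hi₂' y hy i₁ hi₁ hi₁' (c ^ m * c' ^ n)
  simp only [isect_mul_left k hd, isect_mul_right k hd, isect_zpow_left k hd, isect_zpow_right k hd,
    isect_comm k c' c] at h
  linarith [h]

omit [IsProper (X ↘ Spec (CommRingCat.of k))] [Smooth (X ↘ Spec (CommRingCat.of k))] [IsIntegral X] in
include hP hp h₁ h₂ hx hi₂ hi₂' hy hi₁ hi₁' in
/-- Everything about intersection numbers on the product needed for the statements. -/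
theorem main :
    ∃ (g₁ g₂ : Pic X),
      (∀ (L : X.Modules) (hL : PicF.IsInvertible L),
        Curv2.deg k C₁ ((Scheme.Modules.pullback i₁).obj L) 1 = isect k (clsMod hL) g₁) ∧
      (∀ (L : X.Modules) (hL : PicF.IsInvertible L),
        Curv2.deg k C₂ ((Scheme.Modules.pullback i₂).obj L) 1 = isect k (clsMod hL) g₂) ∧
      (∀ (M N : X.Modules) (hM : PicF.IsInvertible M) (hN : PicF.IsInvertible N),
        FGA.intNum k X 2 ![M, N] (Coh.structureModule X) = isect k (clsMod hM) (clsMod hN)) ∧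
      (∀ c, isect k c c ≤ 2 * isect k c g₁ * isect k c g₂) ∧
      (∀ c c', (isect k c c' - isect k c g₁ * isect k c' g₂ - isect k c g₂ * isect k c' g₁) ^ 2 ≤
        (2 * isect k c g₁ * isect k c g₂ - isect k c c) * (2 * isect k c' g₁ * isect k c' g₂ - isect k c' c')) ∧
      (∀ {L M : X.Modules} (hL : PicF.IsInvertible L), Nonempty (CohB1.tensorMod L M ≅ Coh.structureModule _) →
        ∃ hM : PicF.IsInvertible M, clsMod hM = (clsMod hL)⁻¹) ∧
      (∀ c c' : Pic X, isect k c⁻¹ c'⁻¹ = isect k c c') := by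
  obtain ⟨hprop, hsm, hint, hdim⟩ := surface k p₁ p₂ hP hp h₁ h₂
  obtain ⟨A, hA⟩ := Goodman.exists_ample_of_smooth_surface k hdim
  refine ⟨cCl i₁.ker, cCl i₂.ker,
    fun L hL => deg_slice k p₂ p₁ hP.flip (hP.w.symm.trans hp) h₂ h₁ y hy i₁ hi₁ hi₁' hdim hL,
    fun L hL => deg_slice k p₁ p₂ hP hp h₁ h₂ x hx i₂ hi₂ hi₂' hdim hL,
    fun M N hM hN => intNum_eq_isect k hdim.le hA hM hN,
    sq_le_two_mul k p₁ p₂ hP hp h₁ h₂ hdim x hx i₂ hi₂ hi₂' y hy i₁ hi₁ hi₁',
    defect_sq_le k p₁ p₂ hP hp h₁ h₂ hdim x hx i₂ hi₂ hi₂' y hy i₁ hi₁ hi₁', ?_,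
    fun c c' => by rw [isect_inv_left k hdim.le, isect_inv_right k hdim.le, neg_neg]⟩
  intro L M hL hM
  obtain ⟨e⟩ := hM
  have hMi : PicF.IsInvertible M := Seesaw26.isInvertible_of_tensor_iso e hL
  refine ⟨hMi, eq_inv_of_mul_eq_one_right ?_⟩
  rw [← Cube.clsMod_tensorMod hL hMi, Cube.clsMod_eq_one_iff]
  exact ⟨e⟩

end GrothLib.CurveProd28
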